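import Cfsg.Agent.Lib.PermCert.Pres
import Cfsg.Agent.Lib.Fischer.C22.T

set_option autoImplicit false
set_option maxRecDepth 100000

namespace Cfsg.Agent.Fi.E22

open Cfsg.Agent.PC

def M (a b : ℕ) : ℕ := Nat.land (Nat.shiftRight (nat_lit 0x3009001400084001001280014004a02040200) (Nat.add (Nat.mul a (nat_lit 16)) b)) (nat_lit 1)
def ws : List (List ℕ) := [[nat_lit 0, nat_lit 1, nat_lit 6, nat_lit 7, nat_lit 2, nat_lit 3, nat_lit 4, nat_lit 8, nat_lit 5, nat_lit 4, nat_lit 3, nat_lit 2, nat_lit 1, nat_lit 2, nat_lit 3, nat_lit 4, nat_lit 5, nat_lit 8, nat_lit 4, nat_lit 3, nat_lit 2, nat_lit 7, nat_lit 6, nat_lit 2, nat_lit 3, nat_lit 1, nat_lit 2, nat_lit 6, nat_lit 7, nat_lit 4, nat_lit 3, nat_lit 2, nat_lit 6, nat_lit 5, nat_lit 4, nat_lit 3, nat_lit 2, nat_lit 1, nat_lit 2, nat_lit 3, nat_lit 4, nat_lit 5, nat_lit 6, nat_lit 2, nat_lit 3, nat_lit 4, nat_lit 7, nat_lit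 6, nat_lit 2, nat_lit 1, nat_lit 3, nat_lit 2, nat_lit 7, nat_lit 8, nat_lit 7, nat_lit 4, nat_lit 8, nat_lit 5, nat_lit 4, nat_lit 3, nat_lit 4, nat_lit 5, nat_lit 8, nat_lit 4, nat_lit 7, nat_lit 8]]
noncomputable def f (c : ℕ) : ℕ := (Nat.add (cxGo C22.T M c (nat_lit 10) []) (relF C22.T ws c))

end Cfsg.Agent.Fi.E22
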