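import Cfsg.Agent.Lib.Fischer.E22.R0

set_option autoImplicit false
set_option maxRecDepth 100000

namespace Cfsg.Agent.Fi.E22

open Cfsg.Agent.PC

theorem hf : ∀ i < 3510, f i = 0 := by
  have h := zero_lt_zero f
  have h := zero_lt_add (a := (nat_lit 0)) (n := (nat_lit 1200)) (b := (nat_lit 1200)) h r0 rfl
  have h := zero_lt_add (a := (nat_lit 1200)) (n := (nat_lit 1200)) (b := (nat_lit 2400)) h r1200 rfl
  have h := zero_lt_add (a := (nat_lit 2400)) (n := (nat_lit 1110)) (b := (nat_lit 3510)) h r2400 rfl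
  exact h

end Cfsg.Agent.Fi.E22
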